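import Groth.Agent.CoskFinLib
import Mathlib.AlgebraicTopology.SimplicialObject.Homotopy

/-!
# Maps agreeing below the level of a coskeleton are homotopic
-/

set_option autoImplicit false

universe v u

open CategoryTheory CategoryTheory.Limits Opposite Simplicial

namespace Groth.Agent.CoskHomotopyLib

open CoskFinLib

noncomputable section

variable {E : Type u} [Category.{v} E] [HasFiniteLimits E] (n : ℕ)
  [∀ F : (SimplexCategory.Truncated n)ᵒᵖ ⥤ E, (SimplexCategory.Truncated.inclusion n).op.HasRightKanExtension F]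

/-- The inclusion of the truncated simplex category. -/
abbrev Inc := (SimplexCategory.Truncated.inclusion n).op

variable {X X' : SimplicialObject E} (f g : X ⟶ X')
  (hfg : ∀ p : ℕ, p < n → f.app (op (SimplexCategory.mk p)) = g.app (op (SimplexCategory.mk p)))

open scoped Classical in
/-- The value of the homotopy on one simplex of a chosen colouring. -/
def pick {p : SimplexCategory} (ε : Fin (p.len + 1) → Prop) (j : (SimplexCategory.Truncated n)ᵒᵖ)
    (α : (unop j).obj ⟶ p) : X.obj ((Inc n).obj j) ⟶ X'.obj ((Inc n).obj j) :=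
  if ∀ v, ε (α.toOrderHom v) then g.app _ else f.app _

include hfg in
theorem app_eq_of_lt {r : SimplexCategory} (h : r.len < n) : f.app (op r) = g.app (op r) := by
  have := hfg r.len h
  simpa using this

include hfg in
theorem pick_naturality {p : SimplexCategory} (ε : Fin (p.len + 1) → Prop) {j j' : (SimplexCategory.Truncated n)ᵒᵖ}
    (β : j ⟶ j') (α : (unop j).obj ⟶ p) (α' : (unop j').obj ⟶ p) (hα : β.unop.hom ≫ α = α') :
    pick n f g ε j α ≫ X'.map ((Inc n).map β) = X.map ((Inc n).map β) ≫ pick n f g ε j' α' := by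
  obtain ⟨⟨a, ha⟩⟩ := j
  obtain ⟨⟨b, hb⟩⟩ := j'
  obtain ⟨β⟩ := β
  obtain ⟨β⟩ := β
  change b ⟶ a at β
  show pick n f g ε (op ⟨a, ha⟩) α ≫ X'.map β.op = X.map β.op ≫ pick n f g ε (op ⟨b, hb⟩) α'
  have hf : f.app (op a) ≫ X'.map β.op = X.map β.op ≫ f.app (op b) := (f.naturality β.op).symm
  have hg : g.app (op a) ≫ X'.map β.op = X.map β.op ≫ g.app (op b) := (g.naturality β.op).symm
  have key : (X.map β.op ≫ f.app (op b) = X.map β.op ≫ g.app (op b)) ∨ ∃ h : b = a, β = eqToHom h := by
    by_cases hb' : b.len < n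
    · exact Or.inl (by rw [app_eq_of_lt n f g hfg hb'])
    · have hbn : b.len = n := le_antisymm hb (not_lt.1 hb')
      by_cases ha' : a.len < n
      · exact Or.inl (by rw [← hf, ← hg, app_eq_of_lt n f g hfg ha'])
      · have hab : b = a := SimplexCategory.ext (hbn.trans (le_antisymm ha (not_lt.1 ha')).symm)
        subst hab
        by_cases hi : Function.Injective β.toOrderHom
        · haveI := SimplexCategory.mono_iff_injective.mpr hi
          exact Or.inr ⟨rfl, SimplexCategory.eq_id_of_mono β⟩
        · induction b using SimplexCategory.rec with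
          | _ m =>
          cases m with
          | zero => exact absurd (fun x y _ => Subsingleton.elim (α := Fin 1) x y) hi
          | succ k =>
            obtain ⟨i, θ, rfl⟩ := SimplexCategory.eq_σ_comp_of_not_injective β hi
            refine Or.inl ?_
            have hk : f.app (op (SimplexCategory.mk k)) = g.app (op (SimplexCategory.mk k)) :=
              hfg k (by simp at hbn; omega)
            rw [op_comp, Functor.map_comp, Category.assoc, Category.assoc, f.naturality, g.naturality, hk]
  rcases key with h | ⟨h, rfl⟩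
  · simp only [pick]
    split_ifs <;> (first | (exact hf) | (exact hg) | (exact hf.trans h) | (exact hg.trans h.symm))
  · subst h
    subst hα
    simp [pick]
    rfl

/-- The coskeleton cone. -/
def isLimitCone (X' : SimplicialObject E) (p : SimplexCategoryᵒᵖ) :
    IsLimit ((Functor.RightExtension.mk _ ((Inc n).ranCounit.app ((SimplicialObject.truncation n).obj X'))).coneAt p) :=
  Functor.isPointwiseRightKanExtensionRanCounit (Inc n) ((SimplicialObject.truncation n).obj X') p

/-- The projection of the coskeleton at a small simplex. -/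
def proj (X : SimplicialObject E) {p : SimplexCategory} (j : (SimplexCategory.Truncated n)ᵒᵖ) (α : (unop j).obj ⟶ p) :
    ((SimplicialObject.cosk n).obj X).obj (op p) ⟶ X.obj ((Inc n).obj j) :=
  ((SimplicialObject.cosk n).obj X).map α.op ≫ ((Inc n).ranCounit.app ((SimplicialObject.truncation n).obj X)).app j

theorem proj_naturality (X : SimplicialObject E) {p : SimplexCategory} {j j' : (SimplexCategory.Truncated n)ᵒᵖ}
    (β : j ⟶ j') (α : (unop j).obj ⟶ p) :
    proj n X j α ≫ X.map ((Inc n).map β) = proj n X j' (β.unop.hom ≫ α) := by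
  have := ((Inc n).ranCounit.app ((SimplicialObject.truncation n).obj X)).naturality β
  rw [proj, proj, Category.assoc]
  refine (congrArg (fun t => ((SimplicialObject.cosk n).obj X).map α.op ≫ t) this.symm).trans ?_
  rw [← Category.assoc]
  congr 1
  exact (((SimplicialObject.cosk n).obj X).map_comp _ _).symm

theorem map_proj (X : SimplicialObject E) {p q : SimplexCategory} (θ : p ⟶ q)
    (j : (SimplexCategory.Truncated n)ᵒᵖ) (α : (unop j).obj ⟶ p) :
    ((SimplicialObject.cosk n).obj X).map θ.op ≫ proj n X j α = proj n X j (α ≫ θ) := by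
  rw [proj, proj, ← Category.assoc]
  congr 1
  exact (((SimplicialObject.cosk n).obj X).map_comp _ _).symm

/-- The mixed map attached to a simplicial operator and a colouring of the vertices. -/
def mix {q : SimplexCategory} {p : SimplexCategory} (s : p ⟶ q) (ε : Fin (p.len + 1) → Prop) :
    ((SimplicialObject.cosk n).obj X).obj (op q) ⟶ ((SimplicialObject.cosk n).obj X').obj (op p) :=
  (isLimitCone n X' (op p)).lift
    { pt := _
      π :=
        { app := fun a => proj n X a.right (a.hom.unop ≫ s) ≫ pick n f g ε a.right a.hom.unop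
          naturality := fun a b φ => by
            have hw : φ.right.unop.hom ≫ a.hom.unop = b.hom.unop := by
              rw [← StructuredArrow.w φ]; rfl
            refine (Category.id_comp _).trans ?_
            show _ = (proj n X a.right (a.hom.unop ≫ s) ≫ pick n f g ε a.right a.hom.unop) ≫ X'.map ((Inc n).map φ.right)
            rw [Category.assoc, pick_naturality n f g hfg ε φ.right a.hom.unop b.hom.unop hw, ← Category.assoc,
              proj_naturality, ← Category.assoc, hw]
            rfl } }

include hfg in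
theorem mix_proj {q p : SimplexCategory} (s : p ⟶ q) (ε : Fin (p.len + 1) → Prop)
    (j : (SimplexCategory.Truncated n)ᵒᵖ) (α : (unop j).obj ⟶ p) :
    mix n f g hfg s ε ≫ proj n X' j α = proj n X j (α ≫ s) ≫ pick n f g ε j α :=
  (isLimitCone n X' (op p)).fac _ (StructuredArrow.mk (Y := j) α.op)

theorem hom_ext_proj {T : E} {p : SimplexCategory} (a b : T ⟶ ((SimplicialObject.cosk n).obj X').obj (op p))
    (h : ∀ (j : (SimplexCategory.Truncated n)ᵒᵖ) (α : (unop j).obj ⟶ p),
      a ≫ proj n X' j α = b ≫ proj n X' j α) : a = b :=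
  (isLimitCone n X' (op p)).hom_ext fun w => h w.right w.hom.unop

include hfg in
theorem mix_congr {q p : SimplexCategory} {s s' : p ⟶ q} {ε ε' : Fin (p.len + 1) → Prop}
    (hs : s = s') (h : ∀ v, ε v ↔ ε' v) : mix n f g hfg s ε = mix n f g hfg s' ε' := by
  subst hs
  rw [show ε = ε' from funext fun v => propext (h v)]

include hfg in
theorem mix_map {q p p' : SimplexCategory} (s : p ⟶ q) (ε : Fin (p.len + 1) → Prop) (θ : p' ⟶ p) :
    mix n f g hfg s ε ≫ ((SimplicialObject.cosk n).obj X').map θ.op =
      mix n f g hfg (θ ≫ s) (fun v => ε (θ.toOrderHom v)) := by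
  refine hom_ext_proj n _ _ fun j α => ?_
  rw [Category.assoc, map_proj, mix_proj, mix_proj, Category.assoc]
  rfl

include hfg in
theorem map_mix {q q' p : SimplexCategory} (s : p ⟶ q) (τ : q ⟶ q') (ε : Fin (p.len + 1) → Prop) :
    ((SimplicialObject.cosk n).obj X).map τ.op ≫ mix n f g hfg s ε = mix n f g hfg (s ≫ τ) ε := by
  refine hom_ext_proj n _ _ fun j α => ?_
  rw [Category.assoc, mix_proj, mix_proj, ← Category.assoc, map_proj, Category.assoc]

theorem cosk_map_proj (φ : X ⟶ X') {p : SimplexCategory} (j : (SimplexCategory.Truncated n)ᵒᵖ)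
    (α : (unop j).obj ⟶ p) :
    ((SimplicialObject.cosk n).map φ).app (op p) ≫ proj n X' j α = proj n X j α ≫ φ.app ((Inc n).obj j) := by
  have h := NatTrans.congr_app ((Inc n).ranCounit.naturality ((SimplicialObject.truncation n).map φ)) j
  rw [proj, proj, ← Category.assoc, ← ((SimplicialObject.cosk n).map φ).naturality, Category.assoc, Category.assoc]
  exact congrArg (fun t => ((SimplicialObject.cosk n).obj X).map α.op ≫ t) h

include hfg in
theorem mix_id_true {p : SimplexCategory} {ε : Fin (p.len + 1) → Prop} (h : ∀ v, ε v) :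
    mix n f g hfg (𝟙 p) ε = ((SimplicialObject.cosk n).map g).app (op p) := by
  refine hom_ext_proj n _ _ fun j α => ?_
  rw [mix_proj, cosk_map_proj, Category.comp_id, pick, if_pos fun v => h _]

include hfg in
theorem mix_id_false {p : SimplexCategory} {ε : Fin (p.len + 1) → Prop} (h : ∀ v, ¬ ε v) :
    mix n f g hfg (𝟙 p) ε = ((SimplicialObject.cosk n).map f).app (op p) := by
  refine hom_ext_proj n _ _ fun j α => ?_
  rw [mix_proj, cosk_map_proj, Category.comp_id, pick, if_neg fun hv => h _ (hv 0)]

theorem val_succAbove {m : ℕ} (i : Fin (m + 1)) (v : Fin m) :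
    ((i.succAbove v : Fin (m + 1)) : ℕ) = if (v : ℕ) < (i : ℕ) then (v : ℕ) else (v : ℕ) + 1 := by
  rcases lt_or_ge (v : ℕ) (i : ℕ) with h | h
  · rw [if_pos h, Fin.succAbove_of_castSucc_lt i v h]; rfl
  · rw [if_neg (not_lt.2 h), Fin.succAbove_of_le_castSucc i v h]; rfl

theorem val_predAbove {m : ℕ} (p : Fin m) (v : Fin (m + 1)) :
    ((p.predAbove v : Fin m) : ℕ) = if (p : ℕ) < (v : ℕ) then (v : ℕ) - 1 else (v : ℕ) := by
  rcases lt_or_ge (p : ℕ) (v : ℕ) with h | h
  · rw [if_pos h, Fin.predAbove_of_castSucc_lt p v h]; rfl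
  · rw [if_neg (not_lt.2 h), Fin.predAbove_of_le_castSucc p v h]; rfl

/-- The homotopy. -/
def homotopy : SimplicialObject.Homotopy ((SimplicialObject.cosk n).map f) ((SimplicialObject.cosk n).map g) where
  h {m} i := mix n f g hfg (SimplexCategory.σ i) (fun v => (i : ℕ) < (v : ℕ))
  h_zero_comp_δ_zero m := by
    simp only [SimplicialObject.δ]
    rw [mix_map]
    refine (mix_congr n f g hfg (SimplexCategory.δ_comp_σ_self (n := m) (i := 0)) (fun _ => Iff.rfl)).trans
      (mix_id_true n f g hfg ?_)
    intro v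
    show (0 : ℕ) < ((Fin.succAbove 0 v : Fin (m + 2)) : ℕ)
    simp
  h_last_comp_δ_last m := by
    simp only [SimplicialObject.δ]
    rw [mix_map, SimplexCategory.δ_comp_σ_succ' (H := (Fin.succ_last m).symm), mix_id_false]
    intro v
    show ¬ ((Fin.last m : Fin (m + 1)) : ℕ) < ((Fin.succAbove (Fin.last (m + 1)) v : Fin (m + 2)) : ℕ)
    have : (v : ℕ) < m + 1 := v.isLt
    simp
    omega
  h_succ_comp_δ_castSucc_of_lt {m} i j hij := by
    simp only [SimplicialObject.δ]
    rw [mix_map, map_mix]
    refine mix_congr n f g hfg (SimplexCategory.δ_comp_σ_of_le hij) fun v => ?_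
    show ((j.succ : Fin (m + 2)) : ℕ) < ((Fin.succAbove i.castSucc v : Fin (m + 3)) : ℕ) ↔ _
    rw [val_succAbove]
    simp only [Fin.val_succ, Fin.coe_castSucc, Fin.le_def] at hij ⊢
    split_ifs <;> omega
  h_succ_comp_δ_castSucc_succ {m} j := by
    simp only [SimplicialObject.δ]
    rw [mix_map, mix_map]
    refine mix_congr n f g hfg ?_ fun v => ?_
    · rw [SimplexCategory.δ_comp_σ_self' (H := (Fin.succ_castSucc j).symm), SimplexCategory.δ_comp_σ_succ' (H := rfl)]
    · show ((j.succ : Fin (m + 2)) : ℕ) < ((Fin.succAbove j.castSucc.succ v : Fin (m + 3)) : ℕ) ↔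
        ((j.castSucc : Fin (m + 2)) : ℕ) < ((Fin.succAbove j.castSucc.succ v : Fin (m + 3)) : ℕ)
      rw [val_succAbove]
      simp only [Fin.val_succ, Fin.coe_castSucc]
      split_ifs <;> omega
  h_castSucc_comp_δ_succ_of_lt {m} i j hji := by
    simp only [SimplicialObject.δ]
    rw [mix_map, map_mix]
    refine mix_congr n f g hfg (SimplexCategory.δ_comp_σ_of_gt hji) fun v => ?_
    show ((j.castSucc : Fin (m + 2)) : ℕ) < ((Fin.succAbove i.succ v : Fin (m + 3)) : ℕ) ↔ _
    rw [val_succAbove]
    simp only [Fin.val_succ, Fin.coe_castSucc, Fin.lt_def] at hji ⊢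
    split_ifs <;> omega
  h_comp_σ_castSucc_of_le {m} i j hij := by
    simp only [SimplicialObject.σ]
    rw [mix_map, map_mix]
    refine mix_congr n f g hfg (SimplexCategory.σ_comp_σ hij) fun v => ?_
    show ((j : Fin (m + 1)) : ℕ) < ((Fin.predAbove i.castSucc v : Fin (m + 2)) : ℕ) ↔ _
    rw [val_predAbove]
    simp only [Fin.val_succ, Fin.coe_castSucc, Fin.le_def] at hij ⊢
    split_ifs <;> omega
  h_comp_σ_succ_of_lt {m} i j hji := by
    simp only [SimplicialObject.σ]
    rw [mix_map, map_mix]
    refine mix_congr n f g hfg (SimplexCategory.σ_comp_σ hji).symm fun v => ?_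
    show ((j : Fin (m + 1)) : ℕ) < ((Fin.predAbove i.succ v : Fin (m + 2)) : ℕ) ↔ _
    rw [val_predAbove]
    simp only [Fin.val_succ, Fin.coe_castSucc, Fin.le_def] at hji ⊢
    split_ifs <;> omega

end

end Groth.Agent.CoskHomotopyLib
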